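import Mathlib
import Groth.Agent.S8883
import Groth.Agent.H8Norm.CurveModificationIso
import Groth.Agent.H28Neron.NormalSmooth
import Groth.Agent.H12Pic.InvDesc.CoverLocal
import Groth.Agent.H28Vert.TrivGeneric
import Groth.Agent.H17.Topology
import Groth.Agent.H17.PullCl

/-!
# An invertible module trivial on the generic fibre of a smooth family over a discrete valuation ring
is trivial on the closed fibre
-/

set_option autoImplicit false
set_option linter.style.haveILetI false
set_option linter.unusedSectionVars false
set_option backward.isDefEq.respectTransparency.types false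
set_option maxHeartbeats 1600000

universe u

open CategoryTheory CategoryTheory.Limits AlgebraicGeometry TopologicalSpace IsLocalRing
open Groth.Agent

noncomputable section

namespace Groth.Agent.H28PicSep

theorem isNormalScheme_Spec (A : Type u) [CommRing A] [IsDomain A] [IsIntegrallyClosed A] :
    Pi1.IsNormalScheme (Spec (CommRingCat.of A)) := by
  intro x
  let p : Ideal A := PrimeSpectrum.asIdeal x
  letI : Algebra A ((Spec (CommRingCat.of A)).presheaf.stalk x) :=
    StructureSheaf.stalkAlgebra (CommRingCat.of A) x
  haveI : IsLocalization.AtPrime ((Spec (CommRingCat.of A)).presheaf.stalk x) p :=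
    StructureSheaf.IsLocalization.to_stalk (CommRingCat.of A) x
  have hle := p.primeCompl_le_nonZeroDivisors
  haveI := IsLocalization.isDomain_of_le_nonZeroDivisors ((Spec (CommRingCat.of A)).presheaf.stalk x) hle
  exact ⟨inferInstance, isIntegrallyClosed_of_isLocalization _ p.primeCompl hle⟩

theorem locallyConnected_noetherian (X : Scheme.{u}) [IsLocallyNoetherian X] : LocallyConnectedSpace X :=
  H17.locallyConnectedSpace_of_locallyNoetherian fun x => by
    obtain ⟨_, ⟨(V : X.Opens), (hV : IsAffineOpen V), rfl⟩, hxV, -⟩ :=
      X.isBasis_affineOpens.exists_subset_of_mem_open (Set.mem_univ x) isOpen_univ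
    haveI : IsNoetherianRing Γ(X, V) := IsLocallyNoetherian.component_noetherian ⟨V, hV⟩
    exact ⟨V, V.2.mem_nhds hxV, hV.isoSpec.hom.homeomorph.isEmbedding.noetherianSpace⟩

/-- A smooth scheme over a field is reduced. -/
theorem isReduced_of_smooth_field {K : Type u} [Field K] {Z : Scheme.{u}} (s : Z ⟶ Spec (CommRingCat.of K))
    [Smooth s] : IsReduced Z :=
  H17.NormalNormalization.isReduced_of_normal (H28Neron.isNormalScheme_of_smooth s (isNormalScheme_Spec K))

/-- An invertible module on the spectrum of a local ring is trivial. -/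
theorem trivial_local {A : Type u} [CommRing A] [IsLocalRing A] (N : (Spec (CommRingCat.of A)).Modules)
    (hN : PicF.IsInvertible N) : Nonempty (N ≅ Coh.structureModule _) := by
  obtain ⟨U, hU, ⟨e⟩⟩ := hN (closedPoint A)
  have hU' : U = ⊤ := top_le_iff.1 fun y _ => (IsLocalRing.specializes_closedPoint y).mem_open U.2 hU
  haveI : IsIso U.ι := by subst hU'; exact inferInstanceAs (IsIso (Scheme.topIso _).hom)
  exact ⟨((Scheme.Modules.pullbackId _).app N).symm ≪≫
    (Scheme.Modules.pullbackCongr (IsIso.inv_hom_id U.ι).symm).app N ≪≫
    ((Scheme.Modules.pullbackComp (inv U.ι) U.ι).app N).symm ≪≫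
    (Scheme.Modules.pullback (inv U.ι)).mapIso (((Scheme.Modules.restrictFunctorIsoPullback U.ι).app N).symm ≪≫ e) ≪≫
    PicLoc.pullbackStructureIso _⟩

variable {R : Type u} [CommRing R] [IsDomain R] [IsDiscreteValuationRing R]

/-- The inclusion of the generic point. -/
abbrev gen (R : Type u) [CommRing R] [IsDomain R] :
    Spec (CommRingCat.of (FractionRing R)) ⟶ Spec (CommRingCat.of R) :=
  Spec.map (CommRingCat.ofHom (algebraMap R (FractionRing R)))

/-- The inclusion of the closed point. -/
abbrev cls (R : Type u) [CommRing R] [IsLocalRing R] :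
    Spec (CommRingCat.of (ResidueField R)) ⟶ Spec (CommRingCat.of R) :=
  Spec.map (CommRingCat.ofHom (residue R))

theorem nonempty_iso_closedFibre {W Wk : Scheme.{u}} (q : W ⟶ Spec (CommRingCat.of R)) [Smooth q]
    [QuasiCompact q] (j : Wk ⟶ W) (qk : Wk ⟶ Spec (CommRingCat.of (ResidueField R)))
    (hpb : IsPullback j qk q (cls R)) (M : W.Modules) (hM : PicF.IsInvertible M)
    (hgen : Nonempty ((Scheme.Modules.pullback (pullback.fst q (gen R))).obj M ≅ Coh.structureModule _)) :
    Nonempty ((Scheme.Modules.pullback j).obj M ≅ Coh.structureModule Wk) := by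
  haveI : IsClosedImmersion j := MorphismProperty.of_isPullback hpb.flip
    (IsClosedImmersion.spec_of_surjective _ IsLocalRing.residue_surjective)
  haveI : Smooth qk := MorphismProperty.of_isPullback hpb ‹Smooth q›
  haveI : QuasiCompact qk := MorphismProperty.of_isPullback hpb ‹QuasiCompact q›
  haveI : IsLocallyNoetherian W := LocallyOfFiniteType.isLocallyNoetherian q
  haveI : IsLocallyNoetherian Wk := LocallyOfFiniteType.isLocallyNoetherian qk
  haveI := locallyConnected_noetherian W
  haveI := locallyConnected_noetherian Wk
  have hWn : Pi1.IsNormalScheme W := H28Neron.isNormalScheme_of_smooth q (isNormalScheme_Spec R)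
  obtain ⟨θ⟩ := hgen
  haveI := H28Vert.isOpenImmersion_generic R
  have hcp : ∀ z : Wk, q (j z) = closedPoint R := fun z => by
    rw [← Scheme.Hom.comp_apply, hpb.w, Scheme.Hom.comp_apply]
    exact IsLocalRing.PrimeSpectrum.comap_residue R (qk z)
  let C : _root_.ConnectedComponents Wk → Wk.Opens := fun c =>
    ⟨_root_.ConnectedComponents.mk ⁻¹' {c}, by
      obtain ⟨x, rfl⟩ := _root_.ConnectedComponents.surjective_coe c
      rw [connectedComponents_preimage_singleton]
      exact isOpen_connectedComponent⟩
  have hkey : ∀ c, Nonempty (((Scheme.Modules.pullback j).obj M).restrict (C c).ι ≅ Coh.structureModule _) := by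
    intro c
    obtain ⟨x, rfl⟩ := _root_.ConnectedComponents.surjective_coe c
    have hC : ((C (_root_.ConnectedComponents.mk x)) : Set Wk) = connectedComponent x :=
      connectedComponents_preimage_singleton
    let W' : W.Opens := ⟨connectedComponent (j x), isOpen_connectedComponent⟩
    let D : Set W := j '' (connectedComponent x)ᶜ
    have hD : IsClosed D := j.isClosedEmbedding.isClosedMap _ isOpen_connectedComponent.isClosed_compl
    let V : W.Opens := W' ⊓ ⟨Dᶜ, hD.isOpen_compl⟩
    have hjC : j '' connectedComponent x ⊆ W' := j.continuous.image_connectedComponent_subset x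
    have hjV : ∀ z, j z ∈ V ↔ z ∈ connectedComponent x := fun z =>
      ⟨fun hz => by_contra fun h => hz.2 ⟨z, h, rfl⟩, fun hz => ⟨hjC ⟨z, hz, rfl⟩, by
        rintro ⟨z', hz', he⟩
        exact hz' (j.isClosedEmbedding.injective he ▸ hz)⟩⟩
    haveI : IsIntegral W'.toScheme := by
      haveI : ConnectedSpace W'.toScheme := isConnected_iff_connectedSpace.1 isConnected_connectedComponent
      haveI : QuasiCompact W'.ι := by
        haveI : CompactSpace W := QuasiCompact.compactSpace_of_compactSpace q
        haveI : CompactSpace W'.toScheme := isCompact_iff_compactSpace.1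
          (isClosed_connectedComponent (x := j x)).isCompact
        exact inferInstance
      exact H8Norm.CurveModificationIso.isIntegral_of_connected (W'.ι ≫ q)
        (H28Neron.isNormalScheme_of_smooth (W'.ι ≫ q) (isNormalScheme_Spec R))
    let i : V.toScheme ⟶ W'.toScheme := W.homOfLE inf_le_left
    haveI : Nonempty V.toScheme := ⟨⟨j x, (hjV x).2 mem_connectedComponent⟩⟩
    haveI : IsIntegral V.toScheme := isIntegral_of_isOpenImmersion i
    let φ := V.ι ≫ q
    haveI : IsLocallyNoetherian V.toScheme := LocallyOfFiniteType.isLocallyNoetherian φ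
    have hsurj : ∀ y : ↥(Spec (CommRingCat.of R)), ∃ v : V.toScheme, φ v = y := by
      intro y
      have hspec : y ⤳ φ ⟨j x, (hjV x).2 mem_connectedComponent⟩ := by
        show y ⤳ q (j x)
        rw [hcp]
        exact IsLocalRing.specializes_closedPoint y
      obtain ⟨v, -, hv⟩ := Flat.generalizingMap φ hspec
      exact ⟨v, hv⟩
    have hfib : ∀ y : ↥(Spec (CommRingCat.of R)), IsIntegral (φ.fiber y) := by
      intro y
      haveI : Smooth φ := inferInstanceAs (Smooth (V.ι ≫ q))
      have hsm : Smooth (φ.fiberToSpecResidueField y) := inferInstanceAs (Smooth (pullback.snd φ _))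
      haveI : IsReduced (φ.fiber y) := @isReduced_of_smooth_field _ _ _ (φ.fiberToSpecResidueField y) hsm
      haveI : IrreducibleSpace (φ.fiber y) := by
        have hirr : IsIrreducible (φ ⁻¹' {y}) := by
          obtain ⟨v, hv⟩ := hsurj y
          refine ⟨⟨v, hv⟩, ?_⟩
          by_cases hy : y = closedPoint R
          · subst hy
            haveI : IsIntegral (C (_root_.ConnectedComponents.mk x)).toScheme := by
              haveI : ConnectedSpace (C (_root_.ConnectedComponents.mk x)).toScheme :=
                isConnected_iff_connectedSpace.1 (hC ▸ isConnected_connectedComponent)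
              haveI : QuasiCompact (C (_root_.ConnectedComponents.mk x)).ι := by
                haveI : CompactSpace Wk := QuasiCompact.compactSpace_of_compactSpace qk
                haveI : CompactSpace (C (_root_.ConnectedComponents.mk x)).toScheme := isCompact_iff_compactSpace.1
                  (hC ▸ (isClosed_connectedComponent (x := x)).isCompact)
                exact inferInstance
              exact H8Norm.CurveModificationIso.isIntegral_of_connected ((C (_root_.ConnectedComponents.mk x)).ι ≫ qk)
                (H28Neron.isNormalScheme_of_smooth ((C (_root_.ConnectedComponents.mk x)).ι ≫ qk)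
                  (isNormalScheme_Spec (ResidueField R)))
            let l : (C (_root_.ConnectedComponents.mk x)).toScheme ⟶ V.toScheme :=
              IsOpenImmersion.lift V.ι ((C (_root_.ConnectedComponents.mk x)).ι ≫ j) (by
                rw [Scheme.Opens.range_ι]
                rintro _ ⟨z, rfl⟩
                exact (hjV z.1).2 (hC.le z.2))
            have hl : ∀ z, V.ι (l z) = j ((C (_root_.ConnectedComponents.mk x)).ι z) := fun z => by
              rw [← Scheme.Hom.comp_apply, IsOpenImmersion.lift_fac, Scheme.Hom.comp_apply]
            have he : φ ⁻¹' {closedPoint R} = Set.range l := by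
              ext v
              constructor
              · intro hv
                obtain ⟨z, hz⟩ : V.ι v ∈ Set.range j := by
                  have hr : V.ι v ∈ q ⁻¹' Set.range (cls R) := by
                    refine ⟨closedPoint (ResidueField R), ?_⟩
                    exact (IsLocalRing.PrimeSpectrum.comap_residue R _).trans hv.symm
                  obtain ⟨w, hw⟩ := hr
                  obtain ⟨z, hz, -⟩ := Scheme.Pullback.exists_preimage_pullback (V.ι v) w hw.symm
                  exact ⟨hpb.isoPullback.inv z, by
                    rw [← Scheme.Hom.comp_apply, hpb.isoPullback_inv_fst, hz]⟩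
                have hzC : z ∈ connectedComponent x := (hjV z).1 (hz ▸ v.2)
                exact ⟨⟨z, hC.ge hzC⟩, V.ι.isOpenEmbedding.injective (by rw [hl]; exact hz)⟩
              · rintro ⟨z, rfl⟩
                show q (V.ι (l z)) = _
                rw [hl, hcp]
            have hl' : IsPreirreducible (Set.range l) := Set.image_univ (f := ⇑l) ▸
              (IrreducibleSpace.isIrreducible_univ _).isPreirreducible.image l l.continuous.continuousOn
            exact he.symm ▸ hl'
          · have hop : IsOpen ({y} : Set ↥(Spec (CommRingCat.of R))) := by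
              have h := (gen R).isOpenEmbedding.isOpen_range
              convert h
              refine Set.eq_singleton_iff_unique_mem.2 ⟨H28Vert.mem_range_generic R y hy, ?_⟩ |>.symm
              rintro _ ⟨a, rfl⟩
              obtain ⟨b, rfl⟩ := H28Vert.mem_range_generic R y hy
              exact congrArg (gen R) (Subsingleton.elim (α := PrimeSpectrum (FractionRing R)) a b)
            exact (PreirreducibleSpace.isPreirreducible_univ).open_subset (hop.preimage φ.continuous)
              (Set.subset_univ _)
        haveI : IrreducibleSpace ↥(φ ⁻¹' {y}) := Subtype.irreducibleSpace hirr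
        exact (φ.fiberHomeo y).irreducibleSpace_iff.2 inferInstance
      exact isIntegral_of_irreducibleSpace_of_isReduced _
    have hMV : PicF.IsInvertible ((Scheme.Modules.pullback V.ι).obj M) := H11Ample.isInvertible_pullback _ hM
    let η := genericPoint ↥(Spec (CommRingCat.of R))
    let lη : φ.fiber η ⟶ pullback q (gen R) :=
      IsOpenImmersion.lift (pullback.fst q (gen R)) (φ.fiberι η ≫ V.ι) (by
        rintro _ ⟨z, rfl⟩
        rw [Scheme.Pullback.range_fst]
        show q ((φ.fiberι η ≫ V.ι) z) ∈ Set.range (gen R)
        have hz : φ (φ.fiberι η z) = η := (φ.range_fiberι η).le ⟨z, rfl⟩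
        rw [show q ((φ.fiberι η ≫ V.ι) z) = φ (φ.fiberι η z) from rfl, hz]
        refine H28Vert.mem_range_generic R η fun he => ?_
        have hsp : η ⤳ ((⟨⊥, Ideal.isPrime_bot⟩ : PrimeSpectrum R) : ↥(Spec (CommRingCat.of R))) :=
          genericPoint_specializes _
        rw [he] at hsp
        exact IsDiscreteValuationRing.not_a_field R
          (le_bot_iff.1 ((PrimeSpectrum.le_iff_specializes (closedPoint R) ⟨⊥, Ideal.isPrime_bot⟩).2 hsp)))
    obtain ⟨N, hN, ⟨eN⟩⟩ := Groth.Agent.S8883.result φ (isNormalScheme_Spec R) hfib (Or.inr inferInstance) _ hMV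
      ⟨(Scheme.Modules.pullbackComp _ _).app M ≪≫
        (Scheme.Modules.pullbackCongr (IsOpenImmersion.lift_fac _ _ _).symm).app M ≪≫
        ((Scheme.Modules.pullbackComp lη _).app M).symm ≪≫ (Scheme.Modules.pullback lη).mapIso θ ≪≫
        PicLoc.pullbackStructureIso lη⟩
    obtain ⟨eT⟩ := trivial_local N hN
    let l : (C (_root_.ConnectedComponents.mk x)).toScheme ⟶ V.toScheme :=
      IsOpenImmersion.lift V.ι ((C (_root_.ConnectedComponents.mk x)).ι ≫ j) (by
        rw [Scheme.Opens.range_ι]
        rintro _ ⟨z, rfl⟩
        exact (hjV z.1).2 (hC.le z.2))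
    exact ⟨(Scheme.Modules.restrictFunctorIsoPullback _).app _ ≪≫ (Scheme.Modules.pullbackComp _ _).app M ≪≫
      (Scheme.Modules.pullbackCongr (IsOpenImmersion.lift_fac _ _ _).symm).app M ≪≫
      ((Scheme.Modules.pullbackComp l V.ι).app M).symm ≪≫
      (Scheme.Modules.pullback l).mapIso (eN ≪≫ (Scheme.Modules.pullback φ).mapIso eT ≪≫
        PicLoc.pullbackStructureIso φ) ≪≫ PicLoc.pullbackStructureIso l⟩
  have hg := fun c => H12Pic.InvDesc.exists_gen_of_restrict_iso (hkey c).some
  choose e he using hg
  refine H12Pic.InvDesc.nonempty_iso_of_disjoint_gens (fun c => (C c).ι ''ᵁ ⊤)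
    (fun x => ⟨_root_.ConnectedComponents.mk x, ⟨x, rfl⟩, trivial, rfl⟩) (fun a b hab => ?_) e he
  ext z
  simp only [Opens.coe_inf, Set.mem_inter_iff, Scheme.Hom.coe_image, Opens.coe_bot, Set.mem_empty_iff_false,
    iff_false, not_and]
  rintro ⟨z₁, -, rfl⟩ ⟨z₂, -, h⟩
  exact hab (z₁.2.symm.trans ((congrArg _root_.ConnectedComponents.mk h).symm.trans z₂.2))

end Groth.Agent.H28PicSep
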