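import Mathlib
import Groth.Agent.H11Val.Dominating

/-!
# A discrete valuation ring dominating a given one in a finite extension
-/

set_option autoImplicit false
set_option linter.style.haveILetI false

universe u

open IsLocalRing

namespace Groth.Agent.H28PicSep

theorem exists_dvr_extension (R : Type u) [CommRing R] [IsDomain R] [IsDiscreteValuationRing R]
    (F : Type u) [Field F] [Algebra R F] [IsFractionRing R F]
    (L : Type u) [Field L] [Algebra F L] [Module.Finite F L] :
    ∃ (A : Type u) (_ : CommRing A) (_ : IsDomain A) (_ : IsDiscreteValuationRing A) (_ : Algebra A L)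
      (_ : IsFractionRing A L) (ρ : R →+* A), IsLocalHom ρ ∧
        (algebraMap A L).comp ρ = (algebraMap F L).comp (algebraMap R F) := by
  letI : Algebra R L := ((algebraMap F L).comp (algebraMap R F)).toAlgebra
  haveI : IsScalarTower R F L := IsScalarTower.of_algebraMap_eq fun _ => rfl
  obtain ⟨V, hV, h⟩ := H11Val.exists_dvr_center_finite F L (maximalIdeal R) (IsDiscreteValuationRing.not_a_field R)
  let ρ : R →+* V := (algebraMap R L).codRestrict V.toSubring fun a => (h a).1
  refine ⟨V, inferInstance, inferInstance, hV, inferInstance, inferInstance, ρ, ⟨fun a ha => ?_⟩, rfl⟩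
  by_contra hu
  have h1 := (h a).2.1 ((mem_maximalIdeal a).2 hu)
  exact ((V.valuation_lt_one_iff (ρ a)).2 h1) ha

end Groth.Agent.H28PicSep
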