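import Mathlib
import Groth.Agent.H28PicSep.Fibre
import Groth.Agent.H28PicSep.Dvr
import Groth.Agent.H28PicSep.Cover
import Groth.Agent.H28PicGrp.Group
import Groth.Agent.H17.PicLim.RelPic
import Groth.Agent.H11Val.Point

/-!
# A point of the Picard scheme of a smooth proper family over a discrete valuation ring which is
neutral at the generic point is neutral at the closed point
-/

set_option autoImplicit false
set_option linter.style.haveILetI false
set_option linter.unusedSectionVars false
set_option backward.isDefEq.respectTransparency.types false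
set_option maxHeartbeats 1600000

universe u

open CategoryTheory CategoryTheory.Limits AlgebraicGeometry IsLocalRing
open Groth.Agent Groth.Agent.H17.PullCl

noncomputable section

namespace Groth.Agent.H28PicSep

variable {X S : Scheme.{u}} {f : X ⟶ S} [IsLocallyNoetherian S] [IsProper f] [Smooth f] {P : Over S}
  {φ : ∀ T : Over S, PicF.Cl (PicF.XT f T) → (T ⟶ P)}

theorem nonempty_iso_of_cl_eq {A : Scheme.{u}} {L L' : A.Modules} (h : PicF.cl L = PicF.cl L') :
    Nonempty (L ≅ L') :=
  (Quot.eqvGen_exact h).rec (fun _ _ h => h) (fun _ => ⟨Iso.refl _⟩) (fun _ _ _ h => ⟨h.some.symm⟩)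
    fun _ _ _ _ _ h h' => ⟨h.some ≪≫ h'.some⟩

/-- A class on a smooth proper family over a discrete valuation ring which is trivial on the generic fibre
is trivial on the closed fibre. -/
theorem closedFibre_trivial (A : Type u) [CommRing A] [IsDomain A] [IsDiscreteValuationRing A]
    (L : Type u) [Field L] [Algebra A L] [IsFractionRing A L] (t : Spec (CommRingCat.of A) ⟶ S)
    (c : PicF.Cl (PicF.XT f (Over.mk t))) (hc : PicF.IsInvertibleCl c)
    (h : PicF.pullCl (PicF.XTmap f (Over.homMk (U := Over.mk (Spec.map (CommRingCat.ofHom (algebraMap A L)) ≫ t))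
      (V := Over.mk t) (Spec.map (CommRingCat.ofHom (algebraMap A L))) rfl)) c =
        PicF.cl (Coh.structureModule _)) :
    PicF.pullCl (PicF.XTmap f (Over.homMk (U := Over.mk (cls A ≫ t)) (V := Over.mk t) (cls A) rfl)) c =
      PicF.cl (Coh.structureModule _) := by
  obtain ⟨M, rfl, hM⟩ := hc
  let T := Over.mk t
  let q : PicF.XT f T ⟶ Spec (CommRingCat.of A) := pullback.snd f T.hom
  haveI : Smooth q := MorphismProperty.pullback_snd _ _ ‹Smooth f›
  haveI : QuasiCompact q := MorphismProperty.pullback_snd _ _ (inferInstanceAs (QuasiCompact f))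
  refine Quot.sound (nonempty_iso_closedFibre q _ (pullback.snd f (cls A ≫ t))
    (H17.PicLim.isPullback_XTmap f _) M hM ?_)
  obtain ⟨e, he, hee⟩ := H11Val.map_fractionRing A L
  let TL : Over S := Over.mk (Spec.map (CommRingCat.ofHom (algebraMap A L)) ≫ t)
  let gL : TL ⟶ T := Over.homMk (Spec.map (CommRingCat.ofHom (algebraMap A L))) rfl
  obtain ⟨θ⟩ := nonempty_iso_of_cl_eq h
  let l : pullback q (gen A) ⟶ PicF.XT f TL :=
    (H17.PicLim.isPullback_XTmap f gL).lift (pullback.fst q (gen A)) (pullback.snd q (gen A) ≫ e) (by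
      rw [Category.assoc, pullback.condition]
      exact congrArg (pullback.snd q (gen A) ≫ ·) hee.symm)
  have hl : l ≫ PicF.XTmap f gL = pullback.fst q (gen A) := IsPullback.lift_fst _ _ _ _
  exact ⟨(Scheme.Modules.pullbackCongr hl.symm).app M ≪≫ ((Scheme.Modules.pullbackComp l _).app M).symm ≪≫
    (Scheme.Modules.pullback l).mapIso θ ≪≫ PicLoc.pullbackStructureIso l⟩

variable (hP : PicRel.IsRelPic f P φ)

include hP in
/-- A point over a discrete valuation ring which is neutral at the generic point is neutral at the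
closed point. -/
theorem closedPoint_eq (R : Type u) [CommRing R] [IsDomain R] [IsDiscreteValuationRing R]
    (t : Spec (CommRingCat.of R) ⟶ S) (h : Over.mk t ⟶ P)
    (hgen : gen R ≫ h.left = gen R ≫ (H28PicGrp.oneP φ (Over.mk t)).left) :
    h.left (closedPoint R) = (H28PicGrp.oneP φ (Over.mk t)).left (closedPoint R) := by
  obtain ⟨ι, U, hU, hU'⟩ := hP.locallySurjective (Over.mk t) h
  obtain ⟨i, w, hw⟩ := hU (closedPoint R)
  obtain ⟨c, hc, hch⟩ := hU' i
  let a := (U i).hom
  haveI : Etale a := (U i).prop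
  haveI : IsLocallyNoetherian (U i).left := by
    haveI : IsLocallyNoetherian (Over.mk t).left := inferInstanceAs (IsLocallyNoetherian (Spec (CommRingCat.of R)))
    haveI : IsLocallyNoetherian ((Functor.fromPUnit (Over.mk t).left).obj (U i).right) :=
      inferInstanceAs (IsLocallyNoetherian (Spec (CommRingCat.of R)))
    exact LocallyOfFiniteType.isLocallyNoetherian a
  let η : ↥(Spec (CommRingCat.of R)) := (⟨⊥, Ideal.isPrime_bot⟩ : PrimeSpectrum R)
  have hη : η ≠ closedPoint R := fun he =>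
    IsDiscreteValuationRing.not_a_field R (congrArg PrimeSpectrum.asIdeal he).symm
  obtain ⟨w', hw'w, hw'⟩ := Flat.generalizingMap a (show η ⤳ a w by
    rw [show a w = closedPoint R from hw]; exact IsLocalRing.specializes_closedPoint η)
  have hne : w ≠ (𝟙 (U i).left : (U i).left ⟶ (U i).left) w' := by
    intro he
    apply hη
    rw [← hw', ← hw]
    exact congrArg a he.symm
  obtain ⟨A, hA, hAd, hAc, hAgen⟩ := H11Val.exists_dvr_hom_through (𝟙 (U i).left) w' w hw'w hne
  rw [Category.comp_id] at hAgen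
  haveI := hAd
  let F := (U i).left.residueField w'
  let T1 : Over S := Over.mk (hA ≫ a ≫ t)
  let g1 : T1 ⟶ PicRel.ovr (Over.mk t) (U i) := Over.homMk hA rfl
  let h1 : T1 ⟶ Over.mk t := g1 ≫ PicRel.ovrHom (Over.mk t) (U i)
  let tF : Spec (CommRingCat.of F) ⟶ S := Spec.map (CommRingCat.ofHom A.subtype) ≫ hA ≫ a ≫ t
  let hF : Over.mk tF ⟶ T1 := Over.homMk (Spec.map (CommRingCat.ofHom A.subtype)) rfl
  let c1 := PicF.pullCl (PicF.XTmap f g1) c
  have hc1 : PicF.IsInvertibleCl c1 := isInvertibleCl_pullCl _ hc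
  have hφ1 : φ T1 c1 = h1 ≫ h := by rw [hP.natural _ _ g1 c hc, hch, ← Category.assoc]
  have h1F : hF ≫ h1 ≫ h = hF ≫ h1 ≫ H28PicGrp.oneP φ (Over.mk t) := by
    haveI := H28Vert.isOpenImmersion_generic R
    have hr : Set.range (hF ≫ h1).left ⊆ Set.range (gen R) := by
      rintro _ ⟨z, rfl⟩
      refine H28Vert.mem_range_generic R _ fun he => hη ?_
      rw [← he]
      show η = a (hA (Spec.map (CommRingCat.ofHom A.subtype) z))
      rw [← Scheme.Hom.comp_apply (f := Spec.map (CommRingCat.ofHom A.subtype)), hAgen]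
      exact (hw'.symm.trans (congrArg a ((U i).left.fromSpecResidueField_apply w' z).symm))
    refine Over.OverMorphism.ext ?_
    show (hF ≫ h1).left ≫ h.left = (hF ≫ h1).left ≫ (H28PicGrp.oneP φ (Over.mk t)).left
    rw [← IsOpenImmersion.lift_fac (gen R) (hF ≫ h1).left hr, Category.assoc, Category.assoc, hgen]
  have hφF : φ (Over.mk tF) (PicF.pullCl (PicF.XTmap f hF) c1) = φ (Over.mk tF) (H28PicGrp.oneC (Over.mk tF) : H28PicGrp.IC f _).1 := by
    rw [hP.natural _ _ hF c1 hc1, hφ1, h1F, H28PicGrp.comp_oneP hP, H28PicGrp.comp_oneP hP]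
    rfl
  obtain ⟨κ, V, hV, hV'⟩ := hP.locallyInjective (Over.mk tF) _ _ (isInvertibleCl_pullCl _ hc1)
    (H28PicGrp.oneC (Over.mk tF) : H28PicGrp.IC f _).2 hφF
  obtain ⟨L, _, _, _, j, g, hg⟩ := exists_lift_cover tF V hV
  have hL : PicF.pullCl (PicF.XTmap f (H28PicNorm.extHom tF L)) (PicF.pullCl (PicF.XTmap f hF) c1) =
      PicF.cl (Coh.structureModule _) := by
    rw [← hg, XTmap_comp, pullCl_comp, hV', ← pullCl_comp, ← XTmap_comp, hg]
    exact Quot.sound ⟨PicLoc.pullbackStructureIso _⟩
  haveI : IsFractionRing A F := inferInstance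
  obtain ⟨B, _, _, _, _, _, ρ, hρ, hρL⟩ := exists_dvr_extension A F L
  haveI := hρ
  let T2 : Over S := Over.mk (Spec.map (CommRingCat.ofHom ρ) ≫ T1.hom)
  let g2 : T2 ⟶ T1 := Over.homMk (Spec.map (CommRingCat.ofHom ρ)) rfl
  let TL : Over S := Over.mk (Spec.map (CommRingCat.ofHom (algebraMap B L)) ≫ T2.hom)
  let gL : TL ⟶ T2 := Over.homMk (Spec.map (CommRingCat.ofHom (algebraMap B L))) rfl
  have hleft : Spec.map (CommRingCat.ofHom (algebraMap B L)) ≫ Spec.map (CommRingCat.ofHom ρ) =
      Spec.map (CommRingCat.ofHom (algebraMap F L)) ≫ Spec.map (CommRingCat.ofHom A.subtype) := by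
    rw [← Spec.map_comp, ← Spec.map_comp, ← CommRingCat.ofHom_comp, ← CommRingCat.ofHom_comp, hρL]
    rfl
  let eL : TL ⟶ H28PicNorm.extPt tF L := Over.homMk (𝟙 _) (by
    rw [Category.id_comp]
    show Spec.map _ ≫ tF = Spec.map _ ≫ Spec.map _ ≫ T1.hom
    rw [reassoc_of% hleft]
    rfl)
  have hcomp : gL ≫ g2 = eL ≫ H28PicNorm.extHom tF L ≫ hF := Over.OverMorphism.ext (by
    simpa [gL, g2, eL, hF] using hleft)
  have htriv := closedFibre_trivial (f := f) B L T2.hom (PicF.pullCl (PicF.XTmap f g2) c1)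
    (isInvertibleCl_pullCl _ hc1) (by
      show PicF.pullCl (PicF.XTmap f gL) _ = _
      rw [← pullCl_comp, ← XTmap_comp, hcomp, XTmap_comp, pullCl_comp, XTmap_comp, pullCl_comp, hL]
      exact Quot.sound ⟨PicLoc.pullbackStructureIso _⟩)
  let Tk : Over S := Over.mk (cls B ≫ T2.hom)
  let gk : Tk ⟶ T2 := Over.homMk (cls B) rfl
  have hk : gk ≫ g2 ≫ h1 ≫ h = gk ≫ g2 ≫ h1 ≫ H28PicGrp.oneP φ (Over.mk t) := by
    rw [H28PicGrp.comp_oneP hP, H28PicGrp.comp_oneP hP, H28PicGrp.comp_oneP hP, ← hφ1, ← hP.natural _ _ g2 c1 hc1,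
      ← hP.natural _ _ gk _ (isInvertibleCl_pullCl _ hc1)]
    exact congrArg (φ Tk) htriv
  have hpt : (gk ≫ g2 ≫ h1).left (closedPoint (ResidueField B)) = closedPoint R := by
    show a (hA (Spec.map (CommRingCat.ofHom ρ) (Spec.map (CommRingCat.ofHom (residue B)) (closedPoint _)))) = _
    rw [show Spec.map (CommRingCat.ofHom (residue B)) (closedPoint (ResidueField B)) = closedPoint B from
      IsLocalRing.PrimeSpectrum.comap_residue B _,
      show Spec.map (CommRingCat.ofHom ρ) (closedPoint B) = closedPoint A from comap_closedPoint ρ, hAc]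
    exact hw
  have := congrArg (fun m : Tk.left ⟶ P.left => m (closedPoint (ResidueField B))) (congrArg Over.Hom.left hk)
  rw [← hpt]
  exact this

end Groth.Agent.H28PicSep
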