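import Mathlib
import Groth.Agent.H28PicSep.Key
import Groth.Agent.H28PicNorm.DvrDescent
import Groth.Agent.H28PicNorm.FieldClass
import Groth.Agent.H29Ref.DenseExt
import Groth.Agent.H28Alg.RegularUFD
import Groth.Agent.H28Neron.LocalGlobal
import Groth.Agent.H4Depth.Regular
import Groth.Agent.H11Val.Criteria
import Groth.Agent.H19Grp.Diagonal
import Groth.Agent.H17.Image

/-!
# The Picard scheme of a smooth proper family is separated, and its closed subschemes of finite type are proper
-/

set_option autoImplicit false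
set_option linter.style.haveILetI false
set_option linter.unusedSectionVars false
set_option backward.isDefEq.respectTransparency.types false
set_option maxHeartbeats 1600000

universe u

open CategoryTheory CategoryTheory.Limits MonoidalCategory CartesianMonoidalCategory MonObj AlgebraicGeometry
  IsLocalRing
open Groth.Agent Groth.Agent.H17.PullCl

noncomputable section

namespace Groth.Agent.H28PicSep

variable {X S : Scheme.{u}} {f : X ⟶ S} [IsLocallyNoetherian S] [IsProper f] [Smooth f] {P : Over S}
  [LocallyOfFiniteType P.hom] {φ : ∀ T : Over S, PicF.Cl (PicF.XT f T) → (T ⟶ P)} (hP : PicRel.IsRelPic f P φ)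

include hP in
theorem isSeparated : IsSeparated P.hom := by
  letI := H28PicGrp.grpObj hP
  let σ : S ⟶ P.left := (η[P]).left
  have hσ : σ ≫ P.hom = 𝟙 S := Over.w η[P]
  refine (H19Grp.isSeparated_iff_isClosedImmersion_one P).mpr ?_
  haveI : IsLocallyNoetherian P.left := LocallyOfFiniteType.isLocallyNoetherian P.hom
  haveI : IsImmersion (σ ≫ P.hom) := by rw [hσ]; infer_instance
  haveI : IsImmersion σ := IsImmersion.of_comp σ P.hom
  haveI : QuasiSeparated P.hom := .of_quasiSeparatedSpace P.hom
  haveI : QuasiCompact (σ ≫ P.hom) := by rw [hσ]; infer_instance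
  haveI : QuasiCompact σ := QuasiCompact.of_comp σ P.hom
  haveI : LocallyOfFiniteType σ := inferInstance
  have hsp : topologically @SpecializingMap σ := by
    intro x y hxy
    rcases eq_or_ne y (σ x) with rfl | hne
    · exact ⟨x, specializes_rfl, rfl⟩
    obtain ⟨A, hA, hAd, hAc, hAgen⟩ := H11Val.exists_dvr_hom_through σ x y hxy hne
    haveI := hAd
    obtain ⟨e, -, he⟩ := H11Val.map_fractionRing A (S.residueField x)
    let t : Spec (CommRingCat.of A) ⟶ S := hA ≫ P.hom
    let h : Over.mk t ⟶ P := Over.homMk hA rfl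
    have hone : (H28PicGrp.oneP φ (Over.mk t)).left = t ≫ σ := by
      rw [← H28PicGrp.one_eq hP, Hom.one_def]
      rfl
    have hgA : gen A ≫ hA = e ≫ S.fromSpecResidueField x ≫ σ := by
      rw [← hAgen, ← Category.assoc]
      exact congrArg (· ≫ hA) he.symm
    have hgt : gen A ≫ t = e ≫ S.fromSpecResidueField x := by
      show gen A ≫ hA ≫ P.hom = _
      rw [reassoc_of% hgA, hσ, Category.comp_id]
    have := closedPoint_eq hP A t h (by
      show gen A ≫ hA = gen A ≫ _
      rw [hone, hgA, ← Category.assoc (gen A), hgt, Category.assoc])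
    refine ⟨t (closedPoint A), ?_, ?_⟩
    · have h0 : t (gen A (closedPoint (FractionRing A))) = x := by
        rw [← Scheme.Hom.comp_apply, hgt, Scheme.Hom.comp_apply, Scheme.fromSpecResidueField_apply]
      have hs := (IsLocalRing.specializes_closedPoint (gen A (closedPoint (FractionRing A)))).map t.continuous
      exact (specializes_of_eq h0.symm).trans hs
    · rw [hone] at this
      exact ((Scheme.Hom.comp_apply t σ (closedPoint A)).symm.trans this.symm).trans hAc
  exact IsClosedImmersion.of_isPreimmersion σ ((isClosedMap_iff_specializingMap σ).2 hsp).isClosed_range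

include hP in
theorem isProper_of_isClosedImmersion {Z : Scheme.{u}} (i : Z ⟶ P.left) [IsClosedImmersion i]
    [QuasiCompact (i ≫ P.hom)] : IsProper (i ≫ P.hom) := by
  haveI := isSeparated hP
  haveI : IsSeparated (i ≫ P.hom) := inferInstance
  haveI : LocallyOfFiniteType (i ≫ P.hom) := inferInstance
  suffices UniversallyClosed (i ≫ P.hom) from { }
  refine H11Val.universallyClosed_of_dvrExistence _ ?_
  intro A _ _ _ x y hxy
  let K := FractionRing A
  let tK : Spec (CommRingCat.of K) ⟶ S := gen A ≫ y
  have hxP : (x ≫ i) ≫ P.hom = tK := by rw [Category.assoc]; exact hxy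
  obtain ⟨L, _, _, _, _, cL, hcL, hcLx⟩ :=
    H28PicNorm.exists_class_finite_separable hP K tK (Over.homMk (x ≫ i) hxP)
  obtain ⟨B, _, _, _, _, _, ρ, hρ, hρL⟩ := exists_dvr_extension A K L
  haveI := hρ
  let T : Over S := Over.mk (Spec.map (CommRingCat.ofHom ρ) ≫ y)
  let TL : Over S := Over.mk (Spec.map (CommRingCat.ofHom (algebraMap B L)) ≫ T.hom)
  let gL : TL ⟶ T := Over.homMk (Spec.map (CommRingCat.ofHom (algebraMap B L))) rfl
  have hleft : Spec.map (CommRingCat.ofHom (algebraMap B L)) ≫ Spec.map (CommRingCat.ofHom ρ) =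
      Spec.map (CommRingCat.ofHom (algebraMap K L)) ≫ gen A := by
    rw [← Spec.map_comp, ← Spec.map_comp, ← CommRingCat.ofHom_comp, ← CommRingCat.ofHom_comp, hρL]
  let eL : TL ⟶ H28PicNorm.extPt tK L := Over.homMk (𝟙 _) (by
    rw [Category.id_comp]
    show Spec.map _ ≫ gen A ≫ y = Spec.map _ ≫ Spec.map _ ≫ y
    rw [reassoc_of% hleft])
  let q : PicF.XT f T ⟶ Spec (CommRingCat.of B) := pullback.snd f T.hom
  haveI : Smooth q := MorphismProperty.pullback_snd _ _ ‹Smooth f›
  haveI : IsLocallyNoetherian (PicF.XT f T) := LocallyOfFiniteType.isLocallyNoetherian q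
  haveI : IsOpenImmersion gL.left := by
    obtain ⟨ϖ, hϖ⟩ := IsDiscreteValuationRing.exists_irreducible B
    haveI := H28Vert.isLocalization_away_fractionRing B hϖ
    haveI : IsLocalization.Away ϖ L :=
      IsLocalization.isLocalization_of_algEquiv (Submonoid.powers ϖ) (FractionRing.algEquiv B L)
    exact (IsOpenImmersion.of_isLocalization ϖ : IsOpenImmersion (Spec.map (CommRingCat.ofHom (algebraMap B L))))
  let gW := PicF.XTmap f gL
  haveI : IsOpenImmersion gW :=
    MorphismProperty.of_isPullback (H17.PicLim.isPullback_XTmap f gL).flip inferInstance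
  obtain ⟨N, hNc, hN⟩ := isInvertibleCl_pullCl (PicF.XTmap f eL) hcL
  let U := gW.opensRange
  let e : U.toScheme ≅ PicF.XT f TL := gW.isoOpensRange.symm
  have he : e.inv ≫ U.ι = gW := gW.isoOpensRange_hom_ι
  obtain ⟨M, hM, ⟨eM⟩⟩ := H29Ref.exists_invertible_extension U ((Scheme.Modules.restrictFunctor e.hom).obj N)
    (H23Para.isInvertible_restrict e.hom hN) (fun z _ => by
      haveI : IsRegularLocalRing ((PicF.XT f T).presheaf.stalk z) :=
        H28Neron.isRegularLocalRing_stalk_of_smooth q z
      haveI := H4Depth.isDomain_of_isRegularLocalRing ((PicF.XT f T).presheaf.stalk z)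
      exact H28Alg.ufd_of_regular _)
  have hres : PicF.pullCl gW (PicF.cl M) = PicF.cl N := Quot.sound ⟨
    (Scheme.Modules.pullbackCongr he.symm).app M ≪≫ ((Scheme.Modules.pullbackComp e.inv U.ι).app M).symm ≪≫
    (Scheme.Modules.pullback e.inv).mapIso (((Scheme.Modules.restrictFunctorIsoPullback U.ι).app M).symm ≪≫ eM ≪≫
      (Scheme.Modules.restrictFunctorIsoPullback e.hom).app N) ≪≫
    (Scheme.Modules.pullbackComp e.inv e.hom).app N ≪≫ (Scheme.Modules.pullbackCongr e.inv_hom_id).app N ≪≫
    (Scheme.Modules.pullbackId _).app N⟩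
  let h : T ⟶ P := φ T (PicF.cl M)
  have hgen : gL ≫ h = eL ≫ H28PicNorm.extHom tK L ≫ Over.homMk (x ≫ i) hxP := by
    rw [← hP.natural _ _ gL _ ⟨M, rfl, hM⟩, hres, hNc, hP.natural _ _ eL cL hcL, hcLx]
  have hgl : Spec.map (CommRingCat.ofHom (algebraMap B L)) ≫ h.left =
      Spec.map (CommRingCat.ofHom (algebraMap K L)) ≫ x ≫ i := by
    simpa [gL, eL] using congrArg Over.Hom.left hgen
  let hB : Spec (CommRingCat.of B) ⟶ pullback P.hom y :=
    pullback.lift h.left (Spec.map (CommRingCat.ofHom ρ)) (Over.w h)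
  let xA : Spec (CommRingCat.of K) ⟶ pullback P.hom y := pullback.lift (x ≫ i) (gen A) hxP
  obtain ⟨l, hl⟩ := H28PicNorm.exists_lift_of_dominating ρ (algebraMap B L) (IsFractionRing.injective B L)
    (algebraMap K L) hρL xA hB (by
      refine pullback.hom_ext ?_ ?_
      · rw [Category.assoc, Category.assoc, pullback.lift_fst, pullback.lift_fst, hgl]
      · rw [Category.assoc, Category.assoc, pullback.lift_snd, pullback.lift_snd]
        exact hleft)
  have hly : l ≫ pullback.snd P.hom y = 𝟙 _ := by
    obtain ⟨m, hm⟩ : ∃ m, Spec.map m = l ≫ pullback.snd P.hom y := ⟨_, Spec.map_preimage _⟩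
    rw [← hm, ← Spec.map_id]
    refine congrArg Spec.map (CommRingCat.hom_ext (RingHom.ext fun a => IsFractionRing.injective A K ?_))
    have h3 : Spec.map (m ≫ CommRingCat.ofHom (algebraMap A K)) = gen A := by
      rw [Spec.map_comp, hm, ← Category.assoc]
      exact (congrArg (· ≫ pullback.snd P.hom y) hl).trans (pullback.lift_snd _ _ _)
    exact congrArg (fun k => k.hom a) (Spec.map_injective h3)
  let lP := l ≫ pullback.fst P.hom y
  have hlP : gen A ≫ lP = x ≫ i := by
    show gen A ≫ l ≫ _ = _
    rw [← Category.assoc]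
    exact (congrArg (· ≫ pullback.fst P.hom y) hl).trans (pullback.lift_fst _ _ _)
  haveI : IsReduced (Spec (CommRingCat.of A)) := inferInstance
  have hrange : Set.range lP ⊆ Set.range i := by
    rintro _ ⟨z, rfl⟩
    have h1 : gen A (closedPoint K) ⤳ z := by
      have hb : gen A (closedPoint K) = (⊥ : PrimeSpectrum A) := PrimeSpectrum.ext (by
        show (maximalIdeal K).comap (algebraMap A K) = ⊥
        rw [IsLocalRing.maximalIdeal_eq_bot, ← RingHom.ker_eq_comap_bot]
        exact (RingHom.injective_iff_ker_eq_bot _).1 (IsFractionRing.injective A K))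
      rw [hb]
      exact (PrimeSpectrum.le_iff_specializes _ z).1 bot_le
    refine (h1.map lP.continuous).mem_closed i.isClosedEmbedding.isClosed_range ?_
    rw [← Scheme.Hom.comp_apply, hlP]
    exact ⟨x (closedPoint K), rfl⟩
  obtain ⟨z, hz⟩ := H17.exists_lift_of_range_subset lP i hrange
  refine ⟨z, ?_, ?_⟩
  · rw [reassoc_of% hz]
    show (l ≫ pullback.fst P.hom y) ≫ P.hom = y
    rw [Category.assoc, pullback.condition, reassoc_of% hly]
  · rw [← cancel_mono i, Category.assoc, hz]
    exact hlP

end Groth.Agent.H28PicSep
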